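/-
Kernel checks for the monomial cover of M22 with labels modulo 4.
-/
import Cfsg.Agent.Lib.M22Mult.FourData
import Cfsg.Agent.Lib.M22Mult.GroupData

set_option autoImplicit false
set_option maxRecDepth 30000
set_option maxHeartbeats 2000000

namespace CfsgLib.M22Mult

theorem permsFour : coverFour.permsOK = true ∧ coverFour.objOK 24 = true ∧ coverFour.treeOK = true ∧
    coverFour.wordOK 24 (gens.map Prod.fst) = true := by decide +kernel

theorem moveFour : coverFour.moveOK 24 (gens.map Prod.fst) = true := by decide +kernel

theorem injFour : coverFour.sortOK coverFourSorted coverFourPlaces = true := by decide +kernel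

theorem rowFour0 : coverFour.rowOK 0 616 = true := by decide +kernel

theorem rowFour1 : coverFour.rowOK 616 1232 = true := by decide +kernel

theorem keepAFour0 : coverFour.keepOK 0 0 616 = true := by decide +kernel

theorem keepAFour1 : coverFour.keepOK 0 616 1232 = true := by decide +kernel

theorem keepBFour0 : coverFour.keepOK 1 0 616 = true := by decide +kernel

theorem keepBFour1 : coverFour.keepOK 1 616 1232 = true := by decide +kernel

end CfsgLib.M22Mult
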