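/-
Kernel checks for M22 on 24 points and its Sylow collectors.
-/
import Cfsg.Agent.Lib.M22Mult.GroupData
import Cfsg.Agent.Lib.StemSylow.CollectGolay
import Cfsg.Agent.Lib.PermChain.Closed

set_option autoImplicit false
set_option maxRecDepth 30000
set_option maxHeartbeats 2000000

namespace CfsgLib.M22Mult

open CfsgPC CfsgLib.StemSylow

theorem gens_ok : (gens.all fun c => isPerm 24 c.1 c.2) = true ∧ gens.length = 2 ∧ golayGens.length = 2 := by
  decide +kernel

theorem golay_ok : (golayGens.all fun c => CfsgGolay.permOK c && CfsgGolay.gensKept c && CfsgGolay.inSub [0, 23] [] c) = true ∧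
    ((List.range 2).all fun a => (List.range 24).all fun i =>
      Nat.beq (CfsgGolay.papp (golayGens.getD a 0) i) (ap (gens.getD a (0, 0)).1 i)) = true := by decide +kernel

theorem chain_shape : shapeOK 24 chain (gens.map Prod.fst) = true ∧
    (chain.map fun L => L.tr.length) = [22, 21, 20, 16, 3] ∧ sizeOfChain chain = 443520 := by decide +kernel

theorem chain_entries : ((List.range 5).all fun j => entriesOK 24 chain (gens.map Prod.fst) j 0
    ([22, 21, 20, 16, 3].getD j 0)) = true := by decide +kernel

theorem memTwo : memOK 24 chain (gcTwo ++ tcTwo) = true ∧ (tcTwo.map Prod.fst).head? = some (idk 24) ∧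
    factsB chain baseTwo.facts (gcTwo.map Prod.fst) (tcTwo.map Prod.fst) = true := by decide +kernel

theorem subTwo_shape : shapeOK 24 subTwo (gcTwo.map Prod.fst) = true ∧
    (subTwo.map fun L => L.tr.length) = [16, 2, 4] ∧ sizeOfChain subTwo = 128 ∧ gcTwo.length = 7 := by decide +kernel

theorem subTwo_entries : ((List.range 3).all fun j => entriesOK 24 subTwo (gcTwo.map Prod.fst) j 0
    ([16, 2, 4].getD j 0)) = true := by decide +kernel

theorem certTwo_ok : certTwo.check = true ∧ baseTwo.p = 2 ∧ baseTwo.n = 7 ∧ certTwo.q = 8 ∧ certTwo.r = 4 := by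
  decide +kernel

/-- Two commuting elements of order dividing three. -/
def threeFacts : List (ℕ × List ℕ × List ℕ) := [(0, [0, 0, 0], []), (0, [1, 1, 1], []), (0, [0, 1], [1, 0])]

/-- The identity, as the only conjugator. -/
def tcThree : List (ℕ × ℕ) := [(idk 24, idk 24)]

theorem memThree : memOK 24 chain (gcThree ++ tcThree) = true ∧ (tcThree.map Prod.fst).head? = some (idk 24) ∧
    factsB chain threeFacts (gcThree.map Prod.fst) (tcThree.map Prod.fst) = true ∧ gcThree.length = 2 := by decide +kernel

theorem subThree_shape : shapeOK 24 subThree (gcThree.map Prod.fst) = true ∧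
    (subThree.map fun L => L.tr.length) = [3, 3] ∧ sizeOfChain subThree = 9 := by decide +kernel

theorem subThree_entries : ((List.range 2).all fun j => entriesOK 24 subThree (gcThree.map Prod.fst) j 0
    ([3, 3].getD j 0)) = true := by decide +kernel

theorem cyc_ok : (cycCodes.all fun d => isPerm 24 d.2.1 d.2.2 && sift 24 chain d.2.1 &&
    (List.range 24).all (fun i => Nat.beq (apN d.2.1 d.1 i) i) &&
    !((List.range 24).all fun i => Nat.beq (ap d.2.1 i) i)) = true ∧ cycCodes.map Prod.fst = [5, 7, 11] := by decide +kernel

end CfsgLib.M22Mult
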