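/-
Kernel checks for the monomial cover of M22 with labels modulo 3.
-/
import Cfsg.Agent.Lib.M22Mult.ThreeData
import Cfsg.Agent.Lib.M22Mult.GroupData

set_option autoImplicit false
set_option maxRecDepth 30000
set_option maxHeartbeats 2000000

namespace CfsgLib.M22Mult

theorem permsThree : coverThree.permsOK = true ∧ coverThree.objOK 24 = true ∧ coverThree.treeOK = true ∧
    coverThree.wordOK 24 (gens.map Prod.fst) = true := by decide +kernel

theorem moveThree : coverThree.moveOK 24 (gens.map Prod.fst) = true := by decide +kernel

theorem injThree : coverThree.sortOK coverThreeSorted coverThreePlaces = true := by decide +kernel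

theorem rowThree0 : coverThree.rowOK 0 330 = true := by decide +kernel

theorem keepAThree0 : coverThree.keepOK 0 0 330 = true := by decide +kernel

theorem keepBThree0 : coverThree.keepOK 1 0 330 = true := by decide +kernel

end CfsgLib.M22Mult
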