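/-
M22 as a group of permutations of 24 points, and its covers with kernels of orders three and four.
-/
import Cfsg.Agent.Lib.M22Mult.GroupChecks
import Cfsg.Agent.Lib.M22Mult.ThreeChecks
import Cfsg.Agent.Lib.M22Mult.FourChecks
import Cfsg.Agent.Lib.Golay.Mathieu
import Cfsg.Agent.Lib.PermChain.Model

set_option autoImplicit false
set_option maxRecDepth 30000
set_option linter.unusedSectionVars false

namespace CfsgLib.M22Mult

open Equiv CfsgPC

attribute [local irreducible] chain gens golayGens coverThree coverFour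

/-- M22 on 24 points. -/
abbrev SmallM22 := ↥(genG 24 (gens.map Prod.fst))

theorem small_model : Valid 24 (gens.map Prod.fst) ∧ TableOK 24 chain (gens.map Prod.fst) ∧
    prodSet 24 chain = genG 24 (gens.map Prod.fst) ∧ Nat.card SmallM22 = 443520 ∧
    Nonempty (↥Cfsg.Spor.M22 ≃* SmallM22) := by
  have hv : Valid 24 (gens.map Prod.fst) := fun c hc => by
    obtain ⟨d, hd, rfl⟩ := List.mem_map.mp hc
    exact ⟨_, decP_rep (List.all_eq_true.mp gens_ok.1 d hd)⟩
  obtain ⟨hs, hlens, hsize⟩ := chain_shape
  have hT : TableOK 24 chain (gens.map Prod.fst) := tableOK_of_checks hs fun j hj k hk => by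
    have hl : chain.length = 5 := by simpa using congrArg List.length hlens
    refine of_entriesOK (List.all_eq_true.mp chain_entries j (List.mem_range.mpr (hl ▸ hj))) (Nat.zero_le _) ?_
    rw [← hlens, List.getD_eq_getElem _ _ (by simpa using hj), List.getElem_map]
    rwa [List.getD_eq_getElem _ _ hj] at hk
  have hinj : Function.Injective fun i : Fin 24 => CfsgGolay.pt i := fun i j h => Fin.ext (by
    have := congrArg CfsgGolay.idx h
    rwa [CfsgGolay.idx_pt i.2, CfsgGolay.idx_pt j.2] at this)
  have hg : ∀ c ∈ gens.map Prod.fst, ∃ g : ↥Cfsg.Spor.M22, ∃ p : Perm (Fin 24), Rep 24 c p ∧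
      ∀ i : Fin 24, g • CfsgGolay.pt i = CfsgGolay.pt (p i) := by
    intro c hc
    obtain ⟨a, ha, rfl⟩ := List.getElem_of_mem hc
    rw [List.length_map] at ha
    have ha2 : a < 2 := gens_ok.2.1 ▸ ha
    have ha' : a < golayGens.length := by rw [gens_ok.2.2]; exact ha2
    obtain ⟨p, hp⟩ := hv _ hc
    have h := List.all_eq_true.mp golay_ok.1 _ (List.getElem_mem ha')
    simp only [Bool.and_eq_true] at h
    obtain ⟨g, hg⟩ := CfsgGolay.exists_repr_of_permOK h.1.1
    refine ⟨⟨g, by
      rw [CfsgGolay.M22_eq]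
      exact CfsgGolay.mem_subG_of_inSub (CfsgGolay.mem_M24_of_gensKept hg h.1.2) hg h.2⟩, p, hp, fun i => ?_⟩
    show g (CfsgGolay.pt i) = CfsgGolay.pt (p i)
    rw [hg.apply_pt i.2]
    have e := Nat.eq_of_beq_eq_true
      (List.all_eq_true.mp (List.all_eq_true.mp golay_ok.2 a (List.mem_range.mpr ha2)) i (List.mem_range.mpr i.2))
    rw [List.getD_eq_getElem _ _ ha', List.getD_eq_getElem _ _ ha] at e
    rw [e, ← hp i, List.getElem_map]
  have hge : 443520 ≤ Nat.card SmallM22 := by
    obtain ⟨hsub, hc⟩ := table_products (by norm_num) hT hv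
    rw [← hsize, ← hc, ← Nat.card_coe_set_eq]
    exact Nat.card_mono (Set.toFinite _) hsub
  haveI : Finite ↥Cfsg.Spor.M22 := Nat.finite_of_card_ne_zero (by rw [CfsgGolay.card_sporM22]; norm_num)
  obtain ⟨e⟩ := exists_model hinj hg (CfsgGolay.card_sporM22.trans_le hge)
  have hcard : Nat.card SmallM22 = 443520 := (Nat.card_congr e.toEquiv).symm.trans CfsgGolay.card_sporM22
  obtain ⟨heq, -⟩ := table_eq (by norm_num) hT hv (by rw [hcard, hsize])
  exact ⟨hv, hT, heq, hcard, ⟨e⟩⟩

theorem small_perfect : _root_.commutator SmallM22 = ⊤ := by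
  obtain ⟨-, -, -, hcard, ⟨e⟩⟩ := small_model
  haveI := CfsgGolay.isSimple_sporM22
  haveI : IsSimpleGroup SmallM22 := CfsgGolay.isSimple_congr e CfsgGolay.isSimple_sporM22
  refine ((_root_.commutator SmallM22).normal_of_characteristic.eq_bot_or_eq_top).resolve_left fun h => ?_
  have hc : ∀ a b : SmallM22, a * b = b * a := fun a b => by
    have := Subgroup.commutator_mem_commutator (Subgroup.mem_top a) (Subgroup.mem_top b)
    rwa [← _root_.commutator_def, h, Subgroup.mem_bot, commutatorElement_eq_one_iff_mul_comm] at this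
  letI : CommGroup SmallM22 := { (inferInstance : Group SmallM22) with mul_comm := hc }
  have := IsSimpleGroup.prime_card (α := SmallM22)
  rw [hcard] at this
  norm_num at this

theorem coverThree_ok : coverThree.OK 24 (gens.map Prod.fst) := by
  obtain ⟨h1, h2, h3, h4⟩ := permsThree
  have hm : coverThree.m = 330 := by with_unfolding_all rfl
  have hq : coverThree.q = 3 := by with_unfolding_all rfl
  refine ⟨by omega, by rw [List.length_map]; exact gens_ok.2.1, h1, h2,
    StemSylow.LabelCover.Data.of_sortOK _ injThree, moveThree, fun a ha => ?_, fun j hj a ha => ?_, h3, h4⟩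
  · exact StemSylow.LabelCover.Data.of_rowOK _ rowThree0 (Nat.zero_le _) (hm ▸ ha)
  · interval_cases j
    · exact StemSylow.LabelCover.Data.of_keepOK _ keepAThree0 (Nat.zero_le _) (hm ▸ ha)
    · exact StemSylow.LabelCover.Data.of_keepOK _ keepBThree0 (Nat.zero_le _) (hm ▸ ha)

theorem coverFour_ok : coverFour.OK 24 (gens.map Prod.fst) := by
  obtain ⟨h1, h2, h3, h4⟩ := permsFour
  have hm : coverFour.m = 1232 := by with_unfolding_all rfl
  have hq : coverFour.q = 4 := by with_unfolding_all rfl
  refine ⟨by omega, by rw [List.length_map]; exact gens_ok.2.1, h1, h2,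
    StemSylow.LabelCover.Data.of_sortOK _ injFour, moveFour, fun a ha => ?_, fun j hj a ha => ?_, h3, h4⟩
  · by_cases h : a < 616
    · exact StemSylow.LabelCover.Data.of_rowOK _ rowFour0 (Nat.zero_le _) h
    · exact StemSylow.LabelCover.Data.of_rowOK _ rowFour1 (not_lt.mp h) (hm ▸ ha)
  · interval_cases j <;> by_cases h : a < 616
    · exact StemSylow.LabelCover.Data.of_keepOK _ keepAFour0 (Nat.zero_le _) h
    · exact StemSylow.LabelCover.Data.of_keepOK _ keepAFour1 (not_lt.mp h) (hm ▸ ha)
    · exact StemSylow.LabelCover.Data.of_keepOK _ keepBFour0 (Nat.zero_le _) h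
    · exact StemSylow.LabelCover.Data.of_keepOK _ keepBFour1 (not_lt.mp h) (hm ▸ ha)

end CfsgLib.M22Mult
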