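/-
The multiplier of M22 is cyclic of order twelve.
-/
import Cfsg.Agent.Lib.M22Mult.Group
import Cfsg.Agent.Lib.StemSylow.PlaneFourModel

set_option autoImplicit false
set_option maxRecDepth 30000
set_option linter.unusedSectionVars false
set_option linter.style.haveILetI false

namespace CfsgLib.M22Mult

open Equiv Subgroup CfsgPC CfsgLib.StemSylow

universe u

attribute [local irreducible] chain gens gcTwo tcTwo gcThree tcThree subTwo subThree cycCodes baseTwo certTwo threeFacts coverThree coverFour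

theorem sub_table {sub : List Level} {cs : List ℕ} {lens : List ℕ} {d : ℕ} (hl : lens.length = d)
    (hs : shapeOK 24 sub cs = true) (hlens : (sub.map fun L => L.tr.length) = lens)
    (he : ((List.range d).all fun j => entriesOK 24 sub cs j 0 (lens.getD j 0)) = true) : TableOK 24 sub cs := by
  refine tableOK_of_checks hs fun j hj k hk => ?_
  have hjd : j < d := by rw [← hl, ← hlens, List.length_map]; exact hj
  refine of_entriesOK (List.all_eq_true.mp he j (List.mem_range.mpr hjd)) (Nat.zero_le _) ?_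
  rw [← hlens, List.getD_eq_getElem _ _ (by simpa using hj), List.getElem_map]
  rwa [List.getD_eq_getElem _ _ hj] at hk

theorem exp_eight {Γ : Type u} [Group Γ] [Finite Γ] {σ : Γ →* SmallM22} (hσ : Cfsg.IsStemExtension σ)
    (hexp : ∀ z ∈ σ.ker, z ^ 8 = 1) : ∃ w ∈ σ.ker, w ^ 4 = 1 ∧ σ.ker ≤ zpowers w := by
  classical
  obtain ⟨hv, hT, hp, hcard, -⟩ := small_model
  obtain ⟨hC, hbp, hn, hq, hr⟩ := certTwo_ok
  obtain ⟨hs, hlens, hsz, hlen⟩ := subTwo_shape
  obtain ⟨g, t, ht, hf, hle⟩ := SylowData.exists_elems ⟨gcTwo, tcTwo, subTwo⟩ (by norm_num) hT hv hp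
    (facts := baseTwo.facts) (N := 128)
    ⟨memTwo.1, memTwo.2.1, memTwo.2.2, sub_table rfl hs hlens subTwo_entries, hsz⟩
  simp only at hle
  rw [hlen] at hle
  have hb : certTwo.base = baseTwo := by with_unfolding_all rfl
  obtain ⟨w, hw, hw4, hall⟩ := CollectPOne.pow_index_mem_zpowers hσ certTwo (by rw [hq]; exact hexp) hC g t ht
    (by rw [hb]; exact hf) (by rw [hb, hbp, hn]; exact hle)
  rw [hr] at hw4
  rw [hb, hn] at hall
  refine ⟨w, hw, hw4, fun z hz => ?_⟩
  have hmul := (closure (g '' {k | k < 7})).card_mul_index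
  rw [hcard] at hmul
  have hupp : Nat.card (closure (g '' {k | k < 7})) ≤ 128 := by
    have hone : ∀ N f, CollectMod.zz (fun _ => (1 : SmallM22)) N f = 1 := by
      intro N f
      induction N with
      | zero => rfl
      | succ k ih => simp [CollectMod.zz, ih]
    have := CollectPOne.card_lift certTwo (Gl := g) (Tl := t) (E := fun _ => (1 : SmallM22))
      (fun _ _ => Commute.one_left _) (fun _ => one_pow _) ht (fun m => by
        show _ = _ * (1 : SmallM22)
        rw [mul_one, hb]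
        by_cases hm : m < baseTwo.facts.length
        · exact hf m hm
        · rw [show baseTwo.fact m = (0, [], []) from List.getD_eq_default _ _ (not_lt.mp hm)]
          simp [Collect.ev_nil, ht]) hC
    simp only [hone, mul_one, orderOf_one, hb, hn, hbp] at this
    refine le_trans (Nat.card_mono (Set.toFinite _) ?_) this
    exact closure_mono Set.subset_union_left
  rw [le_antisymm hupp hle] at hmul
  have hi : (closure (g '' {k | k < 7})).index = 3465 := by omega
  have h := hall z hz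
  rw [hi, show 3465 = 8 * 433 + 1 from rfl, pow_succ, pow_mul, hexp z hz, one_pow, one_mul] at h
  exact h

/-- Transfer into a Sylow subgroup for three. -/
theorem three_part {Γ : Type u} [Group Γ] [Finite Γ] {σ : Γ →* SmallM22} (hσ : Cfsg.IsStemExtension σ) :
    ∃ w ∈ σ.ker, w ^ 3 = 1 ∧ ∀ z ∈ σ.ker, z ^ 49280 ∈ zpowers w := by
  classical
  obtain ⟨hv, hT, hp, hcard, -⟩ := small_model
  obtain ⟨hs, hlens, hsz⟩ := subThree_shape
  obtain ⟨g, t, ht, hf, hle⟩ := SylowData.exists_elems ⟨gcThree, tcThree, subThree⟩ (by norm_num) hT hv hp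
    (facts := threeFacts) (N := 9)
    ⟨memThree.1, memThree.2.1, memThree.2.2.1, sub_table rfl hs hlens subThree_entries, hsz⟩
  simp only at hle
  rw [memThree.2.2.2] at hle
  have hfl : threeFacts = [(0, [0, 0, 0], []), (0, [1, 1, 1], []), (0, [0, 1], [1, 0])] := by with_unfolding_all rfl
  rw [hfl] at hf
  have f0 := hf 0 (by simp)
  have f1 := hf 1 (by simp)
  have f2 := hf 2 (by simp)
  simp [Collect.ev, ht] at f0 f1 f2
  have ha : g 0 ^ 3 = 1 := by rw [pow_succ, pow_two, mul_assoc]; exact f0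
  have hb : g 1 ^ 3 = 1 := by rw [pow_succ, pow_two, mul_assoc]; exact f1
  have hset : g '' {k | k < 2} = {g 0, g 1} := by
    ext x
    constructor
    · rintro ⟨k, hk, rfl⟩
      replace hk : k < 2 := hk
      interval_cases (k : ℕ)
      · exact Or.inl rfl
      · exact Or.inr rfl
    · rintro (rfl | rfl)
      exacts [⟨0, show (0 : ℕ) < 2 by norm_num, rfl⟩, ⟨1, show (1 : ℕ) < 2 by norm_num, rfl⟩]
  rw [hset] at hle
  set P := closure ({g 0, g 1} : Set SmallM22) with hP
  have hcc : ∀ x ∈ P, ∀ y ∈ P, Commute x y := by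
    intro x hx y hy
    induction hx, hy using closure_induction₂ with
    | mem a b ha' hb' =>
      rcases ha' with rfl | rfl <;> rcases hb' with rfl | rfl
      exacts [Commute.refl _, f2, f2.symm, Commute.refl _]
    | one_left x _ => exact Commute.one_left x
    | one_right x _ => exact Commute.one_right x
    | mul_left x y z _ _ _ h1 h2 => exact h1.mul_left h2
    | mul_right y z x _ _ _ h1 h2 => exact h1.mul_right h2
    | inv_left x y _ _ h => exact h.inv_left
    | inv_right x y _ _ h => exact h.inv_right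
  have h3 : ∀ x ∈ P, x ^ 3 = 1 := fun x hx => by
    induction hx using closure_induction with
    | mem x hx' => rcases hx' with rfl | rfl <;> assumption
    | one => exact one_pow 3
    | mul a b ha' hb' e1 e2 => rw [(hcc a ha' b hb').mul_pow, e1, e2, one_mul]
    | inv a _ e => rw [inv_pow, e, inv_one]
  haveI : Fact (Nat.Prime 3) := ⟨Nat.prime_three⟩
  have hpg : IsPGroup 3 P := fun x => ⟨1, Subtype.ext (by simpa using h3 x x.2)⟩
  obtain ⟨e, he⟩ := IsPGroup.iff_card.mp hpg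
  have hmul := P.card_mul_index
  rw [he, hcard] at hmul
  rw [he] at hle
  have he2 : e = 2 := by
    have hlo : 2 ≤ e := by
      by_contra hlt
      have : 3 ^ e ≤ 3 ^ 1 := Nat.pow_le_pow_right (by norm_num) (by omega)
      omega
    by_contra hne
    have : 3 ^ 3 ∣ 443520 := ⟨3 ^ (e - 3) * P.index, by
      rw [← hmul, ← mul_assoc, ← pow_add]; congr 2; omega⟩
    norm_num at this
  subst he2
  have hi : P.index = 49280 := by omega
  obtain ⟨w, hw, hw3, hle'⟩ := PlaneFour.derived_three hσ.1 hσ.2.1 (g := g 0) (h := g 1) f2 ha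
  refine ⟨w, hw, hw3, fun z hz => ?_⟩
  have := hle' (PlaneFour.pow_index_derived hσ P hz)
  rwa [hi] at this

theorem ker_small {Γ : Type u} [Group Γ] [Finite Γ] {σ : Γ →* SmallM22} (hσ : Cfsg.IsStemExtension σ) :
    ∃ v ∈ σ.ker, v ^ 12 = 1 ∧ σ.ker ≤ zpowers v := by
  classical
  obtain ⟨hv, hT, hp, hcard, -⟩ := small_model
  have kc : ∀ p ∈ [5, 7, 11], ∀ w ∈ σ.ker, w ^ p = 1 → w = 1 := fun p hp w hw hwp => by
    obtain ⟨hall, hmap⟩ := cyc_ok
    rw [← hmap] at hp
    obtain ⟨d, hd, rfl⟩ := List.mem_map.mp hp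
    have hd7 : d.1 = 5 ∨ d.1 = 7 ∨ d.1 = 11 := by
      have : d.1 ∈ cycCodes.map Prod.fst := List.mem_map_of_mem hd
      simpa [hmap] using this
    have h := List.all_eq_true.mp hall d hd
    simp only [Bool.and_eq_true, Bool.not_eq_true', List.all_eq_true, List.mem_range] at h
    obtain ⟨⟨⟨hp', hs⟩, hpow⟩, hne⟩ := h
    have hr := decP_rep hp'
    let g : SmallM22 := ⟨_, mem_of_sift (by norm_num) hT hv _ _ hr hs⟩
    refine no_torsion_cyclic (by rcases hd7 with e | e | e <;> rw [e] <;> norm_num) (g := g)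
      (Subtype.ext (Equiv.ext fun i => Fin.ext ?_)) (fun e => ?_) ?_ hσ hw hwp
    · rw [SubgroupClass.coe_pow, ← rep_apN hr, Nat.eq_of_beq_eq_true (hpow i i.2)]
      rfl
    · have e' : decP 24 d.2.1 = 1 := congrArg Subtype.val e
      rw [← Bool.not_eq_true, List.all_eq_true] at hne
      refine hne fun i hi => ?_
      have := hr ⟨i, List.mem_range.mp hi⟩
      rw [e'] at this
      rw [show ap d.2.1 i = i from this, Nat.beq_refl]
    · rw [hcard]; rcases hd7 with e | e | e <;> rw [e] <;> norm_num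
  obtain ⟨w, hw, hw3, h49⟩ := three_part hσ
  have h384 : ∀ z ∈ σ.ker, z ^ 384 = 1 := by
    intro z hz
    have h0 : z ^ 443520 = 1 := by
      have := CfsgLib.StSL.pow_index_eq_one_of_cyclic hσ (1 : SmallM22) hz
      rwa [zpowers_one_eq_bot, index_bot, hcard] at this
    have k1 : z ^ 40320 = 1 := kc 11 (by simp) _ (pow_mem hz _) (by rw [← pow_mul]; exact h0)
    have k2 : z ^ 5760 = 1 := kc 7 (by simp) _ (pow_mem hz _) (by rw [← pow_mul]; exact k1)
    have k4 : z ^ 1152 = 1 := kc 5 (by simp) _ (pow_mem hz _) (by rw [← pow_mul]; exact k2)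
    obtain ⟨k, hk⟩ := mem_zpowers_iff.mp (h49 z hz)
    have k5 : z ^ 147840 = 1 := by
      rw [show 147840 = 49280 * 3 from rfl, pow_mul, ← hk, ← zpow_natCast, ← zpow_mul, mul_comm, zpow_mul,
        zpow_natCast, hw3, one_zpow]
    have := pow_gcd_eq_one.mpr ⟨k4, k5⟩
    exact this
  obtain ⟨z₀, hz₀, ⟨y₀, hy₀, he₀⟩, hall⟩ := CollectMod.mod_pow hσ 8 4 (fun Δ _ _ τ hτ hexp => exp_eight hτ hexp)
  have hc : ∀ x, x ∈ σ.ker → ∀ g, Commute x g := fun x hx g => (mem_center_iff.mp (hσ.2.1 hx) g).symm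
  have hfour : ∀ z ∈ σ.ker, ∃ v ∈ σ.ker, z ^ 4 = v ^ 8 := by
    intro z hz
    obtain ⟨k, y, hy, rfl⟩ := hall z hz
    refine ⟨y₀ ^ k * y ^ 4, mul_mem (zpow_mem hy₀ k) (pow_mem hy 4), ?_⟩
    rw [(hc _ (zpow_mem hz₀ k) _).mul_pow, (hc _ (zpow_mem hy₀ k) _).mul_pow, ← pow_mul, ← pow_mul]
    congr 1
    rw [← zpow_natCast (z₀ ^ k), ← zpow_natCast (y₀ ^ k), ← _root_.zpow_mul, ← _root_.zpow_mul, mul_comm k, mul_comm k,
      _root_.zpow_mul, _root_.zpow_mul, zpow_natCast, zpow_natCast, he₀]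
  have hit : ∀ j : ℕ, ∀ z ∈ σ.ker, ∃ v ∈ σ.ker, z ^ 4 = v ^ 2 ^ (j + 3) := by
    intro j
    induction j with
    | zero => exact hfour
    | succ j ih =>
      intro z hz
      obtain ⟨v, hv, e⟩ := ih z hz
      obtain ⟨x, hx, e'⟩ := hfour v hv
      refine ⟨x, hx, ?_⟩
      rw [e, show 2 ^ (j + 3) = 4 * 2 ^ (j + 1) by ring, pow_mul, e', ← pow_mul]
      congr 1
      ring
  have h12 : ∀ z ∈ σ.ker, z ^ 12 = 1 := by
    intro z hz
    obtain ⟨v, hv, e⟩ := hit 4 z hz
    rw [show 12 = 4 * 3 from rfl, pow_mul, e, ← pow_mul]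
    exact h384 v hv
  have hz3 : z₀ ^ 3 ∈ σ.ker := pow_mem hz₀ 3
  have hw4 : w ^ 4 = w := by rw [pow_succ, hw3, one_mul]
  have hpz : (z₀ ^ 3) ^ 4 = 1 := by rw [← pow_mul]; exact h12 _ hz₀
  set v := w * z₀ ^ 3 with hvdef
  have hv4 : v ^ 4 = w := by rw [hvdef, (hc w hw _).mul_pow, hw4, hpz, mul_one]
  have hv9 : v ^ 9 = z₀ ^ 3 := by
    rw [hvdef, (hc w hw _).mul_pow, show 9 = 3 * 3 from rfl, pow_mul, hw3, one_pow, one_mul,
      show (z₀ ^ 3) ^ (3 * 3) = ((z₀ ^ 3) ^ 4) ^ 2 * z₀ ^ 3 by group, hpz, one_pow, one_mul]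
  refine ⟨v, mul_mem hw hz3, h12 _ (mul_mem hw hz3), fun z hz => ?_⟩
  have e4 : z ^ 4 ∈ zpowers v := by
    obtain ⟨k, hk⟩ := mem_zpowers_iff.mp (h49 z hz)
    have : z ^ 8 = w ^ k := by
      rw [hk, show 49280 = 12 * 4106 + 8 from rfl, pow_add, pow_mul, h12 z hz, one_pow, one_mul]
    rw [show z ^ 4 = (z ^ 8) ^ 2 by
      rw [← pow_mul, show 8 * 2 = 12 + 4 from rfl, pow_add, h12 z hz, one_mul], this, ← hv4]
    exact pow_mem (zpow_mem (pow_mem (mem_zpowers v) 4) k) 2
  have e3 : z ^ 3 ∈ zpowers v := by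
    obtain ⟨k, y, hy, rfl⟩ := hall z hz
    rw [(hc _ (zpow_mem hz₀ k) _).mul_pow, ← pow_mul, show 8 * 3 = 12 * 2 from rfl, pow_mul, h12 y hy, one_pow,
      mul_one, ← zpow_natCast, ← zpow_mul, mul_comm, zpow_mul, zpow_natCast, ← hv9]
    exact zpow_mem (pow_mem (mem_zpowers v) 9) k
  rw [show z = z ^ 4 * (z ^ 3)⁻¹ by group]
  exact mul_mem e4 (inv_mem e3)

theorem multiplier : Cfsg.HasCyclicSchurMultiplier ↥Cfsg.Spor.M22 12 := by
  classical
  obtain ⟨hv, -, -, -, ⟨e⟩⟩ := small_model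
  haveI : Finite ↥Cfsg.Spor.M22 := Finite.of_equiv _ e.symm.toEquiv
  have onto : ∀ (Γ : Type) [Group Γ] [Finite Γ] (σ : Γ →* ↥Cfsg.Spor.M22), Cfsg.IsStemExtension σ →
      ∃ π : Multiplicative (ZMod 12) →* σ.ker, Function.Surjective π := by
    intro Γ _ _ σ hσ
    have hk : (e.toMonoidHom.comp σ).ker = σ.ker := MonoidHom.ker_mulEquiv_comp _ _
    obtain ⟨v, hvk, hv12, hle⟩ := ker_small (σ := e.toMonoidHom.comp σ)
      ⟨e.surjective.comp hσ.1, hk ▸ hσ.2.1, hk ▸ hσ.2.2⟩
    rw [hk] at hvk hle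
    let v' : σ.ker := ⟨v, hvk⟩
    let f : ZMod 12 →+ Additive σ.ker := ZMod.lift 12 ⟨zmultiplesHom (Additive σ.ker) (Additive.ofMul v'), by
      rw [zmultiplesHom_apply, natCast_zsmul, ← ofMul_pow, show v' ^ 12 = 1 from Subtype.ext hv12, ofMul_one]⟩
    refine ⟨AddMonoidHom.toMultiplicativeLeft f, fun x => ?_⟩
    obtain ⟨k, hk'⟩ := mem_zpowers_iff.mp (hle x.2)
    refine ⟨Multiplicative.ofAdd (k : ZMod 12), ?_⟩
    show Additive.toMul (f (k : ZMod 12)) = x
    rw [show f (k : ZMod 12) = k • Additive.ofMul v' by simp [f], toMul_zsmul, toMul_ofMul]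
    exact Subtype.ext hk'
  refine ⟨?_, onto⟩
  obtain ⟨hfin3, hst3, hk3⟩ := LabelCover.cover_stem coverThree_ok hv small_perfect
  obtain ⟨hfin4, hst4, hk4⟩ := LabelCover.cover_stem coverFour_ok hv small_perfect
  haveI := hfin3
  haveI := hfin4
  let f := e.symm.toMonoidHom.comp (LabelCover.proj coverThree_ok hv)
  let g := e.symm.toMonoidHom.comp (LabelCover.proj coverFour_ok hv)
  have hfk : f.ker = (LabelCover.proj coverThree_ok hv).ker := MonoidHom.ker_mulEquiv_comp (LabelCover.proj coverThree_ok hv) e.symm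
  have hgk : g.ker = (LabelCover.proj coverFour_ok hv).ker := MonoidHom.ker_mulEquiv_comp (LabelCover.proj coverFour_ok hv) e.symm
  have hf : Cfsg.IsStemExtension f := ⟨e.symm.surjective.comp hst3.1, hfk ▸ hst3.2.1, hfk ▸ hst3.2.2⟩
  have hg : Cfsg.IsStemExtension g := ⟨e.symm.surjective.comp hst4.1, hgk ▸ hst4.2.1, hgk ▸ hst4.2.2⟩
  have hq3 : coverThree.q = 3 := by with_unfolding_all rfl
  have hq4 : coverFour.q = 4 := by with_unfolding_all rfl
  have hst := PlaneFour.combine hf hg (by rw [hfk, hgk, hk3, hk4, hq3, hq4]; norm_num)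
  obtain ⟨π, hπ⟩ := onto _ _ hst
  refine ⟨_, inferInstance, inferInstance, _, hst, ⟨(MulEquiv.ofBijective π
    ((Nat.bijective_iff_surjective_and_card _).mpr ⟨hπ, ?_⟩)).symm⟩⟩
  rw [PlaneFour.card_ker_fibre, hfk, hgk, hk3, hk4, hq3, hq4, Nat.card_eq_fintype_card]
  simp

end CfsgLib.M22Mult
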